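import Mathlib

/-!
# Numbers for the rows `E₆`, `²E₆`, `²F₄` of the identification for S3480, S3481 (helper407)

* `three_no` : `3 (x⁶ + αx³ + 1) = y⁶ + βy³ + 1` has no solution in prime powers `x` (`α, β = ±1`).
* `same` : `x⁶ + αx³ + 1 = y⁶ + βy³ + 1` only for `x = y`, `α = β`.
* `tf_one`, `tf_three` : the numbers `4b⁴ ± 4b³ + 2b² ± 2b + 1` of `²F₄(2b²)` are not `(q⁶ ± q³ + 1)/d`.
* `tf_D1`, `tf_D3` : the number `u⁴ - u² + 1`.
-/

set_option autoImplicit false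

namespace Cfsg.Agent.H407.E6I

theorem cube_ge {x : ℕ} (hx : 2 ≤ x) : (8 : ℤ) ≤ (x : ℤ) ^ 3 := by
  have h : (2 : ℤ) ≤ x := by exact_mod_cast hx
  have h2 : (2 : ℤ) ^ 3 ≤ (x : ℤ) ^ 3 := pow_le_pow_left₀ (by norm_num) h 3
  linarith

/-- the basic impossibility -/
theorem core {x lo : ℕ} {α : ℤ} (hx : IsPrimePow x) (hα : α = 1 ∨ α = -1)
    (h : (3 : ℤ) * lo * (lo + 1) = (x : ℤ) ^ 3 * ((x : ℤ) ^ 3 + α)) : False := by
  have hx2 := hx.two_le
  have h8 := cube_ge hx2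
  have hlo : 1 ≤ lo := by
    rcases Nat.eq_zero_or_pos lo with h0 | h0
    · exfalso
      rw [h0] at h
      push_cast at h
      have : (0 : ℤ) < (x : ℤ) ^ 3 * ((x : ℤ) ^ 3 + α) := by
        apply mul_pos (by linarith)
        rcases hα with h1 | h1 <;> rw [h1] <;> linarith
      linarith
    · exact h0
  have hco : Nat.Coprime lo (lo + 1) := by simp
  have hα' : -1 ≤ α ∧ α ≤ 1 := by rcases hα with h1 | h1 <;> rw [h1] <;> norm_num
  -- a divisor `W ≥ 8` with `W ∣ lo` or `W ∣ lo + 1` and `X = c W`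
  have fin : ∀ (W : ℕ) (c : ℤ), 4 ≤ (W : ℤ) → (c = 1 ∨ c = 3) → (x : ℤ) ^ 3 = c * W → (W ∣ lo ∨ W ∣ lo + 1) → False := by
    intro W c hW hc hX hd
    rcases hd with ⟨j, hj⟩ | ⟨j, hj⟩
    · have hj1 : (lo : ℤ) = W * j := by exact_mod_cast hj
      have hj0 : (1 : ℤ) ≤ j := by
        have : j ≠ 0 := by rintro rfl; omega
        exact_mod_cast Nat.one_le_iff_ne_zero.2 this
      rw [hj1, hX] at h
      have hW0 : (W : ℤ) ≠ 0 := by intro h0; rw [h0] at hW; norm_num at hW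
      have h2 : 3 * (j : ℤ) * (W * j + 1) = c * (c * W + α) := by
        apply mul_left_cancel₀ hW0
        linear_combination h
      rcases hc with rfl | rfl
      · nlinarith [mul_le_mul hj0 hj0 (by norm_num) (by linarith)]
      · -- `j (W j + 1) = 3 W + α`
        have h3 : (j : ℤ) * (W * j + 1) = 3 * W + α := by linarith
        rcases lt_or_ge (j : ℤ) 2 with h4 | h4
        · have h5 : (j : ℤ) = 1 := by omega
          rw [h5] at h3
          omega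
        · nlinarith [mul_le_mul h4 h4 (by norm_num) (by linarith)]
    · have hj1 : (lo : ℤ) + 1 = W * j := by exact_mod_cast hj
      have hj0 : (1 : ℤ) ≤ j := by
        have : j ≠ 0 := by rintro rfl; omega
        exact_mod_cast Nat.one_le_iff_ne_zero.2 this
      have hj2 : (lo : ℤ) = W * j - 1 := by linarith
      rw [hj2, hX] at h
      have hW0 : (W : ℤ) ≠ 0 := by intro h0; rw [h0] at hW; norm_num at hW
      have h2 : 3 * (j : ℤ) * (W * j - 1) = c * (c * W + α) := by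
        apply mul_left_cancel₀ hW0
        linear_combination h
      rcases hc with rfl | rfl
      · nlinarith [mul_le_mul hj0 hj0 (by norm_num) (by linarith)]
      · have h3 : (j : ℤ) * (W * j - 1) = 3 * W + α := by linarith
        rcases lt_or_ge (j : ℤ) 2 with h4 | h4
        · have h5 : (j : ℤ) = 1 := by omega
          rw [h5] at h3
          omega
        · nlinarith [mul_le_mul h4 h4 (by norm_num) (by linarith)]
  by_cases h3 : 3 ∣ x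
  · -- `x = 3^k`
    obtain ⟨p, k, hp, hk, rfl⟩ := hx
    have hp' := Nat.prime_iff.2 hp
    have h5 : p = 3 := ((Nat.prime_dvd_prime_iff_eq Nat.prime_three hp').1 (Nat.prime_three.dvd_of_dvd_pow h3)).symm
    subst h5
    obtain ⟨l, rfl⟩ : ∃ l, k = l + 1 := ⟨k - 1, by omega⟩
    have e1 : ((3 : ℕ) ^ (l + 1)) ^ 3 = 3 * (9 * 27 ^ l) := by
      rw [← pow_mul, show 27 = 3 ^ 3 by norm_num, ← pow_mul]
      ring
    have e1' : ((3 ^ (l + 1) : ℕ) : ℤ) ^ 3 = 3 * ((9 * 27 ^ l : ℕ) : ℤ) := by exact_mod_cast e1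
    refine fin (9 * 27 ^ l) 3 ?_ (Or.inr rfl) e1' ?_
    · have : 1 ≤ 27 ^ l := Nat.one_le_pow _ _ (by norm_num)
      push_cast
      have : (1 : ℤ) ≤ 27 ^ l := by exact_mod_cast this
      linarith
    · have hW : IsPrimePow (9 * 27 ^ l) := by
        have : 9 * 27 ^ l = 3 ^ (2 + 3 * l) := by
          rw [pow_add, pow_mul]
          norm_num
        rw [this]
        exact Nat.prime_three.isPrimePow.pow (by omega)
      refine (Nat.Coprime.isPrimePow_dvd_mul hco hW).1 ?_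
      rw [← Int.natCast_dvd_natCast]
      refine ⟨((3 ^ (l + 1) : ℕ) : ℤ) ^ 3 + α, ?_⟩
      have h6 : (3 : ℤ) * (((lo * (lo + 1) : ℕ) : ℤ)) = 3 * (((9 * 27 ^ l : ℕ) : ℤ) * (((3 ^ (l + 1) : ℕ) : ℤ) ^ 3 + α)) := by
        have h7 := h
        rw [e1'] at h7 ⊢
        push_cast at h7 ⊢
        linear_combination h7
      exact mul_left_cancel₀ (by norm_num) h6
  · refine fin (x ^ 3) 1 ?_ (Or.inl rfl) (by push_cast; ring) ?_
    · push_cast; linarith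
    · have hW : IsPrimePow (x ^ 3) := hx.pow (by norm_num)
      refine (Nat.Coprime.isPrimePow_dvd_mul hco hW).1 ?_
      have h4 : Nat.Coprime (x ^ 3) 3 := by
        refine Nat.Coprime.pow_left 3 ?_
        exact ((Nat.Prime.coprime_iff_not_dvd Nat.prime_three).2 h3).symm
      refine h4.dvd_of_dvd_mul_left ?_
      rw [← Int.natCast_dvd_natCast]
      refine ⟨(x : ℤ) ^ 3 + α, ?_⟩
      push_cast
      linear_combination h

/-- **`3 N(x) = N(y)` is impossible.** -/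
theorem three_no {x y : ℕ} {α β : ℤ} (hx : IsPrimePow x) (hy : 2 ≤ y) (hα : α = 1 ∨ α = -1) (hβ : β = 1 ∨ β = -1)
    (h : (3 : ℤ) * ((x : ℤ) ^ 6 + α * (x : ℤ) ^ 3 + 1) = (y : ℤ) ^ 6 + β * (y : ℤ) ^ 3 + 1) : False := by
  have h8 := cube_ge hy
  obtain ⟨Y, hY⟩ : ∃ Y : ℤ, Y = (y : ℤ) ^ 3 := ⟨_, rfl⟩
  obtain ⟨X, hX⟩ : ∃ X : ℤ, X = (x : ℤ) ^ 3 := ⟨_, rfl⟩
  have e1 : (y : ℤ) ^ 6 = Y ^ 2 := by rw [hY]; ring
  have e2 : (x : ℤ) ^ 6 = X ^ 2 := by rw [hX]; ring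
  rw [e1, e2, ← hX, ← hY] at h
  rw [← hY] at h8
  have hc := @core x
  rw [← hX] at hc
  have h3 : Y % 3 = 0 ∨ Y % 3 = 1 ∨ Y % 3 = 2 := by omega
  obtain ⟨t, ht⟩ : ∃ t : ℤ, t = Y / 3 := ⟨_, rfl⟩
  rcases hβ with rfl | rfl
  · have h4 : Y = 3 * t + 1 := by
      rcases h3 with h3 | h3 | h3
      · exfalso
        have h5 : Y = 3 * t := by omega
        rw [h5] at h
        have : (3 : ℤ) * (X ^ 2 + α * X + 1 - (3 * t ^ 2 + t)) = 1 := by linear_combination h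
        omega
      · omega
      · exfalso
        have h5 : Y = 3 * t + 2 := by omega
        rw [h5] at h
        have : (3 : ℤ) * (X ^ 2 + α * X + 1 - (3 * t ^ 2 + 5 * t + 2)) = 1 := by linear_combination h
        omega
    obtain ⟨lo, hlo⟩ : ∃ lo : ℕ, (lo : ℤ) = t := ⟨t.toNat, Int.toNat_of_nonneg (by omega)⟩
    refine hc (lo := lo) hx hα ?_
    rw [hlo]
    rw [h4] at h
    linarith
  · have h4 : Y = 3 * t + 2 := by
      rcases h3 with h3 | h3 | h3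
      · exfalso
        have h5 : Y = 3 * t := by omega
        rw [h5] at h
        have : (3 : ℤ) * (X ^ 2 + α * X + 1 - (3 * t ^ 2 - t)) = 1 := by linear_combination h
        omega
      · exfalso
        have h5 : Y = 3 * t + 1 := by omega
        rw [h5] at h
        have : (3 : ℤ) * (X ^ 2 + α * X + 1 - (3 * t ^ 2 + t)) = 1 := by linear_combination h
        omega
      · omega
    obtain ⟨lo, hlo⟩ : ∃ lo : ℕ, (lo : ℤ) = t := ⟨t.toNat, Int.toNat_of_nonneg (by omega)⟩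
    refine hc (lo := lo) hx hα ?_
    rw [hlo]
    rw [h4] at h
    linarith

/-- **`N(x) = N(y)` only for `x = y`.** -/
theorem same {x y : ℕ} {α β : ℤ} (hx : 2 ≤ x) (hy : 2 ≤ y) (hα : α = 1 ∨ α = -1) (hβ : β = 1 ∨ β = -1)
    (h : (x : ℤ) ^ 6 + α * (x : ℤ) ^ 3 + 1 = (y : ℤ) ^ 6 + β * (y : ℤ) ^ 3 + 1) : α = β ∧ x = y := by
  have hx8 := cube_ge hx
  have hy8 := cube_ge hy
  -- two cubes do not differ by one
  have key : ∀ a b : ℕ, 2 ≤ a → (a : ℤ) ^ 3 + 1 ≠ (b : ℤ) ^ 3 := by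
    intro a b ha hab
    have h1 : a < b := by
      by_contra h2
      have h3 : (b : ℤ) ^ 3 ≤ (a : ℤ) ^ 3 :=
        pow_le_pow_left₀ (by positivity) (by exact_mod_cast not_lt.1 h2) 3
      linarith
    have h2 : ((a : ℤ) + 1) ^ 3 ≤ (b : ℤ) ^ 3 :=
      pow_le_pow_left₀ (by positivity) (by exact_mod_cast h1) 3
    have h3 : (2 : ℤ) ≤ a := by exact_mod_cast ha
    nlinarith [sq_nonneg (a : ℤ)]
  have e1 : ((x : ℤ) ^ 3 - (y : ℤ) ^ 3) * ((x : ℤ) ^ 3 + (y : ℤ) ^ 3) = β * (y : ℤ) ^ 3 - α * (x : ℤ) ^ 3 := by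
    linear_combination h
  have h0 : (x : ℤ) ^ 3 + (y : ℤ) ^ 3 ≠ 0 := by positivity
  have inj : (x : ℤ) ^ 3 = (y : ℤ) ^ 3 → x = y := by
    intro h1
    have h2 : x ^ 3 = y ^ 3 := by exact_mod_cast h1
    exact Nat.pow_left_injective (by norm_num) h2
  rcases hα with rfl | rfl <;> rcases hβ with rfl | rfl
  · refine ⟨rfl, inj ?_⟩
    have : ((x : ℤ) ^ 3 - (y : ℤ) ^ 3) * ((x : ℤ) ^ 3 + (y : ℤ) ^ 3 + 1) = 0 := by linear_combination e1
    rcases mul_eq_zero.1 this with h1 | h1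
    · linarith
    · exfalso; linarith
  · exfalso
    have : ((x : ℤ) ^ 3 - (y : ℤ) ^ 3 + 1) * ((x : ℤ) ^ 3 + (y : ℤ) ^ 3) = 0 := by linear_combination e1
    exact key x y hx (by linarith [(mul_eq_zero.1 this).resolve_right h0])
  · exfalso
    have : ((x : ℤ) ^ 3 - (y : ℤ) ^ 3 - 1) * ((x : ℤ) ^ 3 + (y : ℤ) ^ 3) = 0 := by linear_combination e1
    exact key y x hy (by linarith [(mul_eq_zero.1 this).resolve_right h0])
  · refine ⟨rfl, inj ?_⟩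
    have : ((x : ℤ) ^ 3 - (y : ℤ) ^ 3) * ((x : ℤ) ^ 3 + (y : ℤ) ^ 3 - 1) = 0 := by linear_combination e1
    rcases mul_eq_zero.1 this with h1 | h1
    · linarith
    · exfalso; linarith

/-! ### `²F₄` -/

/-- `d = 1` -/
theorem tf_one {b Q s ε : ℤ} (hb : 2 ≤ b) (hQ : 8 ≤ Q) (hs : s = 1 ∨ s = -1) (hε : ε = 1 ∨ ε = -1)
    (h : 4 * b ^ 4 + s * (4 * b ^ 3) + 2 * b ^ 2 + s * (2 * b) + 1 = Q ^ 2 + ε * Q + 1) : False := by
  obtain ⟨Z, hZ⟩ : ∃ Z : ℤ, Z = 2 * Q + ε := ⟨_, rfl⟩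
  have hs2 : s * s = 1 := by rcases hs with rfl | rfl <;> norm_num
  have hε2 : ε * ε = 1 := by rcases hε with rfl | rfl <;> norm_num
  have hZ2 : Z ^ 2 = 16 * b ^ 4 + s * (16 * b ^ 3) + 8 * b ^ 2 + s * (8 * b) + 1 := by
    rw [hZ]
    linear_combination (-4) * h + hε2
  have hZ0 : 0 < Z := by rcases hε with rfl | rfl <;> linarith
  have hW : 0 < 4 * b ^ 2 + s * (2 * b) := by rcases hs with rfl | rfl <;> nlinarith
  have h1 : (4 * b ^ 2 + s * (2 * b)) ^ 2 < Z ^ 2 := by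
    have : Z ^ 2 - (4 * b ^ 2 + s * (2 * b)) ^ 2 = 4 * b ^ 2 + s * (8 * b) + 1 := by
      rw [hZ2]
      linear_combination (-4 * b ^ 2) * hs2
    have h2 : 0 < 4 * b ^ 2 + s * (8 * b) + 1 := by rcases hs with rfl | rfl <;> nlinarith
    linarith
  have h2 : Z ^ 2 < (4 * b ^ 2 + s * (2 * b) + 1) ^ 2 := by
    have : (4 * b ^ 2 + s * (2 * b) + 1) ^ 2 - Z ^ 2 = 4 * b ^ 2 - s * (4 * b) := by
      rw [hZ2]
      linear_combination (4 * b ^ 2) * hs2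
    have h2 : 0 < 4 * b ^ 2 - s * (4 * b) := by rcases hs with rfl | rfl <;> nlinarith
    linarith
  have h3 := lt_of_pow_lt_pow_left₀ 2 hZ0.le h1
  have h4 := lt_of_pow_lt_pow_left₀ 2 (by linarith) h2
  linarith

/-- the final quadratic equation -/
theorem tf_quad {b i s : ℤ} (hb : 2 ≤ b) (hs : s = 1 ∨ s = -1)
    (h : 2 * b ^ 2 * (i ^ 2 - 3) + s * b * (4 * i - 6) + 3 * i - 1 = 0) (hodd : i % 2 = 1) : b = 2 ∧ s = -1 ∧ i = -1 := by
  have big : ∀ t : ℤ, 3 ≤ t → b * (4 * t + 6) + 3 * t + 1 < 2 * b ^ 2 * (t ^ 2 - 3) := by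
    intro t ht
    have h1 : 2 * t ≤ t ^ 2 - 3 := by nlinarith [mul_nonneg (show 0 ≤ t - 3 by linarith) (show 0 ≤ t + 1 by linarith)]
    have h2 : 2 * b ^ 2 * (2 * t) ≤ 2 * b ^ 2 * (t ^ 2 - 3) := mul_le_mul_of_nonneg_left h1 (by positivity)
    have h3 : 0 ≤ (b - 2) * (b * t) := mul_nonneg (by linarith) (by nlinarith)
    have h4 : 0 ≤ (b - 2) * (t - 3) := mul_nonneg (by linarith) (by linarith)
    nlinarith
  have hi : i = 1 ∨ i = -1 ∨ 3 ≤ i ∨ i ≤ -3 := by omega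
  rcases hi with rfl | rfl | hi | hi
  · exfalso
    rcases hs with rfl | rfl <;> nlinarith
  · rcases hs with rfl | rfl
    · exfalso
      nlinarith
    · have h1 : (b - 2) * (2 * b - 1) = 0 := by linarith
      rcases mul_eq_zero.1 h1 with h2 | h2
      · exact ⟨by linarith, rfl, rfl⟩
      · omega
  · exfalso
    have h1 := big i hi
    have h2 : 0 ≤ b * (4 * i + 6) := mul_nonneg (by linarith) (by linarith)
    rcases hs with rfl | rfl
    · nlinarith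
    · have h3 : b * (4 * i - 6) ≤ b * (4 * i + 6) := mul_le_mul_of_nonneg_left (by linarith) (by linarith)
      nlinarith
  · exfalso
    obtain ⟨j, rfl⟩ : ∃ j, i = -j := ⟨-i, by ring⟩
    have hj : 3 ≤ j := by linarith
    have h1 := big j hj
    have h2 : 0 ≤ b * (4 * j + 6) := mul_nonneg (by linarith) (by linarith)
    have e : 2 * b ^ 2 * ((-j) ^ 2 - 3) = 2 * b ^ 2 * (j ^ 2 - 3) := by ring
    rw [e] at h
    rcases hs with rfl | rfl
    · have e2 : (1 : ℤ) * b * (4 * -j - 6) = -(b * (4 * j + 6)) := by ring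
      rw [e2] at h
      linarith
    · have e2 : (-1 : ℤ) * b * (4 * -j - 6) = b * (4 * j + 6) := by ring
      rw [e2] at h
      have h5 : 3 * j + 1 < 2 * b ^ 2 * (j ^ 2 - 3) := by linarith
      linarith

/-- `d = 3`, `q` odd -/
theorem tf_three {m q : ℕ} {s ε : ℤ} (hm : 1 ≤ m) (hq : 2 ≤ q) (hodd : q % 2 = 1) (hs : s = 1 ∨ s = -1)
    (hε : ε = 1 ∨ ε = -1)
    (h : (3 : ℤ) * (4 * (2 ^ m : ℤ) ^ 4 + s * (4 * (2 ^ m : ℤ) ^ 3) + 2 * (2 ^ m : ℤ) ^ 2 + s * (2 * (2 ^ m : ℤ)) + 1) =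
      (q : ℤ) ^ 6 + ε * (q : ℤ) ^ 3 + 1) : False := by
  have hb2 : (2 : ℤ) ≤ 2 ^ m := by
    calc (2 : ℤ) = 2 ^ 1 := by norm_num
      _ ≤ 2 ^ m := pow_le_pow_right₀ (by norm_num) hm
  have hco2 : IsCoprime ((2 : ℤ) ^ (m + 1)) ((q : ℤ) ^ 3 + 2 * ε) := by
    apply IsCoprime.pow_left
    rw [Int.isCoprime_iff_gcd_eq_one]
    have h1 : ((q : ℤ) ^ 3 + 2 * ε) % 2 = 1 := by
      have h2 : Odd ((q : ℤ) ^ 3) := by
        apply Odd.pow
        rw [Int.odd_iff]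
        omega
      rw [Int.odd_iff] at h2
      omega
    have h2 : Int.gcd 2 ((q : ℤ) ^ 3 + 2 * ε) ∣ 2 := by
      have := Int.gcd_dvd_natAbs_left 2 ((q : ℤ) ^ 3 + 2 * ε)
      simpa using this
    rcases (Nat.dvd_prime Nat.prime_two).1 h2 with h3 | h3
    · exact h3
    · exfalso
      have h4 : (2 : ℤ) ∣ (q : ℤ) ^ 3 + 2 * ε := by
        have := Int.gcd_dvd_right 2 ((q : ℤ) ^ 3 + 2 * ε)
        rw [h3] at this
        exact_mod_cast this
      omega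
  obtain ⟨b, hb⟩ : ∃ b : ℤ, b = 2 ^ m := ⟨_, rfl⟩
  rw [← hb] at h hb2
  have e2 : (2 : ℤ) ^ (m + 1) = 2 * b := by rw [hb]; ring
  rw [e2] at hco2
  obtain ⟨Q, hQ⟩ : ∃ Q : ℤ, Q = (q : ℤ) ^ 3 := ⟨_, rfl⟩
  have hq8 := cube_ge hq
  rw [← hQ] at hco2 hq8
  have e1 : (q : ℤ) ^ 6 = Q ^ 2 := by rw [hQ]; ring
  rw [e1, ← hQ] at h
  have hs2 : s * s = 1 := by rcases hs with rfl | rfl <;> norm_num
  have hε2 : ε * ε = 1 := by rcases hε with rfl | rfl <;> norm_num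
  have h1 : (Q - ε) * (Q + 2 * ε) = 2 * b * (3 * (b + s) * (2 * b ^ 2 + 1)) := by
    linear_combination (-1 : ℤ) * h - 2 * hε2
  have h2 : 2 * b ∣ Q - ε := by
    refine hco2.dvd_of_dvd_mul_right ?_
    rw [h1]
    exact Dvd.intro _ rfl
  obtain ⟨c, hc⟩ := h2
  have hb0 : (2 * b : ℤ) ≠ 0 := by intro h0; linarith
  have h3 : c * (2 * b * c + 3 * ε) = 3 * (b + s) * (2 * b ^ 2 + 1) := by
    apply mul_left_cancel₀ hb0
    rw [← h1]
    have : Q + 2 * ε = 2 * b * c + 3 * ε := by linear_combination hc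
    rw [this, hc]
    ring
  have h4 : b ∣ 3 * (c - ε * s) := by
    refine ⟨ε * (6 * b ^ 2 + 6 * s * b + 3 - 2 * c ^ 2), ?_⟩
    linear_combination ε * h3 - 3 * c * hε2
  have hco3 : IsCoprime b 3 := by
    rw [hb]
    apply IsCoprime.pow_left
    exact ⟨-1, 1, by norm_num⟩
  obtain ⟨j, hj⟩ := hco3.dvd_of_dvd_mul_left h4
  have hc' : c = ε * s + b * j := by linear_combination hj
  have h5 : 2 * (1 + 2 * ε * s * b * j + b ^ 2 * j ^ 2) + 3 * ε * j = 6 * b ^ 2 + 6 * s * b + 3 := by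
    have hb1 : b ≠ 0 := by intro h0; linarith
    apply mul_left_cancel₀ hb1
    rw [hc'] at h3
    linear_combination h3 - (2 * b * (s * s)) * hε2 - (2 * b + 3 * s * 0) * hs2 - 3 * s * hε2
  obtain ⟨i, hi⟩ : ∃ i : ℤ, i = ε * j := ⟨_, rfl⟩
  have hj' : j = ε * i := by rw [hi]; linear_combination (-j) * hε2
  have h6 : 2 * b ^ 2 * (i ^ 2 - 3) + s * b * (4 * i - 6) + 3 * i - 1 = 0 := by
    rw [hi]
    linear_combination h5 + (2 * b ^ 2 * j ^ 2) * hε2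
  have hbe : b % 2 = 0 := by
    rw [hb]
    obtain ⟨l, rfl⟩ : ∃ l, m = l + 1 := ⟨m - 1, by omega⟩
    rw [pow_succ]
    omega
  have hio : i % 2 = 1 := by
    obtain ⟨b', hb'⟩ : ∃ b', b = 2 * b' := ⟨b / 2, by omega⟩
    have h7 : 3 * i - 1 = 2 * (-(b ^ 2 * (i ^ 2 - 3)) - s * b' * (4 * i - 6)) := by
      rw [hb'] at h6 ⊢
      linear_combination h6
    omega
  obtain ⟨h7, h8, h9⟩ := tf_quad hb2 hs h6 hio
  rw [h7, h8] at h
  -- `111 = Q² + εQ + 1`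
  have hQ27 : 27 ≤ Q := by
    have : (3 : ℤ) ≤ q := by omega
    have h10 : (3 : ℤ) ^ 3 ≤ (q : ℤ) ^ 3 := pow_le_pow_left₀ (by norm_num) this 3
    rw [hQ]
    linarith
  rcases hε with rfl | rfl <;> nlinarith

/-- the number `u⁴ - u² + 1`, `d = 1` -/
theorem tf_D1 {m q : ℕ} {ε : ℤ} (hm : 3 ≤ m) (hq : IsPrimePow q) (hε : ε = 1 ∨ ε = -1)
    (h : ((2 ^ m : ℕ) : ℤ) ^ 4 - ((2 ^ m : ℕ) : ℤ) ^ 2 + 1 = (q : ℤ) ^ 6 + ε * (q : ℤ) ^ 3 + 1) :
    q ^ 3 = (2 ^ m) ^ 2 := by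
  have hu : 8 ≤ 2 ^ m := by
    calc 8 = 2 ^ 3 := by norm_num
      _ ≤ 2 ^ m := Nat.pow_le_pow_right (by norm_num) hm
  have hev : 2 ∣ 2 ^ m := dvd_pow_self 2 (by omega)
  obtain ⟨u, hu'⟩ : ∃ u, u = 2 ^ m := ⟨_, rfl⟩
  rw [← hu'] at hu hev h ⊢
  have hq2 := hq.two_le
  have hq8 := cube_ge hq2
  obtain ⟨Q, hQ⟩ : ∃ Q : ℕ, Q = q ^ 3 := ⟨_, rfl⟩
  have hQ' : (Q : ℤ) = (q : ℤ) ^ 3 := by rw [hQ]; push_cast; ring
  have e1 : (q : ℤ) ^ 6 = (Q : ℤ) ^ 2 := by rw [hQ']; ring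
  rw [e1, ← hQ'] at h
  rw [← hQ'] at hq8
  rw [← hQ]
  have hu8 : (8 : ℤ) ≤ u := by exact_mod_cast hu
  rcases hε with rfl | rfl
  · exfalso
    have h1 : ((u : ℤ) ^ 2 - Q - 1) * ((u : ℤ) ^ 2 + Q) = 0 := by linear_combination h
    have h2 : ((u : ℤ) ^ 2 + Q) ≠ 0 := by positivity
    have h3 : (u : ℤ) ^ 2 = Q + 1 := by linarith [(mul_eq_zero.1 h1).resolve_right h2]
    have h3' : u ^ 2 = Q + 1 := by exact_mod_cast h3
    have h4 : Q = (u - 1) * (u + 1) := by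
      obtain ⟨w, rfl⟩ : ∃ w, u = w + 1 := ⟨u - 1, by omega⟩
      rw [Nat.add_sub_cancel]
      nlinarith
    have hpp : IsPrimePow Q := by rw [hQ]; exact hq.pow (by norm_num)
    have hco : Nat.Coprime (u - 1) (u + 1) := by
      obtain ⟨w, rfl⟩ : ∃ w, u = 2 * w := hev
      have h5 : Nat.Coprime (2 * w - 1) 2 := by
        rw [Nat.coprime_two_right]
        exact ⟨w - 1, by omega⟩
      have h6 : 2 * w + 1 = (2 * w - 1) + 2 := by omega
      rw [h6]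
      exact (Nat.coprime_self_add_right).2 h5
    have h5 : Q ∣ (u - 1) * (u + 1) := by rw [← h4]
    have h6 : u + 1 < Q := by
      rw [h4]
      have h7 : 2 ≤ u - 1 := by omega
      nlinarith
    rcases (Nat.Coprime.isPrimePow_dvd_mul hco hpp).1 h5 with h7 | h7
    · have := Nat.le_of_dvd (by omega) h7
      omega
    · have := Nat.le_of_dvd (by omega) h7
      omega
  · have h1 : ((u : ℤ) ^ 2 - Q) * ((u : ℤ) ^ 2 + Q - 1) = 0 := by linear_combination h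
    have h2 : ((u : ℤ) ^ 2 + Q - 1) ≠ 0 := by
      intro h0
      nlinarith
    have h3 : (u : ℤ) ^ 2 = Q := by linarith [(mul_eq_zero.1 h1).resolve_right h2]
    exact_mod_cast h3.symm

/-- the number `u⁴ - u² + 1`, `d = 3`, `q` odd -/
theorem tf_D3 {m q : ℕ} {ε : ℤ} (hm : 3 ≤ m) (hq : 2 ≤ q) (hodd : q % 2 = 1) (hε : ε = 1 ∨ ε = -1)
    (h : (3 : ℤ) * (((2 ^ m : ℕ) : ℤ) ^ 4 - ((2 ^ m : ℕ) : ℤ) ^ 2 + 1) = (q : ℤ) ^ 6 + ε * (q : ℤ) ^ 3 + 1) : False := by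
  have hu : 8 ≤ 2 ^ m := by
    calc 8 = 2 ^ 3 := by norm_num
      _ ≤ 2 ^ m := Nat.pow_le_pow_right (by norm_num) hm
  have hco2 : IsCoprime (((2 ^ m : ℕ) : ℤ) ^ 2) ((q : ℤ) ^ 3 + 2 * ε) := by
    push_cast
    apply IsCoprime.pow_left
    apply IsCoprime.pow_left
    rw [Int.isCoprime_iff_gcd_eq_one]
    have h1 : ((q : ℤ) ^ 3 + 2 * ε) % 2 = 1 := by
      have h2 : Odd ((q : ℤ) ^ 3) := by
        apply Odd.pow
        rw [Int.odd_iff]
        omega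
      rw [Int.odd_iff] at h2
      omega
    have h2 : Int.gcd 2 ((q : ℤ) ^ 3 + 2 * ε) ∣ 2 := by
      have := Int.gcd_dvd_natAbs_left 2 ((q : ℤ) ^ 3 + 2 * ε)
      simpa using this
    rcases (Nat.dvd_prime Nat.prime_two).1 h2 with h3 | h3
    · exact h3
    · exfalso
      have h4 : (2 : ℤ) ∣ (q : ℤ) ^ 3 + 2 * ε := by
        have := Int.gcd_dvd_right 2 ((q : ℤ) ^ 3 + 2 * ε)
        rw [h3] at this
        exact_mod_cast this
      omega
  obtain ⟨u, hu'⟩ : ∃ u : ℤ, u = ((2 ^ m : ℕ) : ℤ) := ⟨_, rfl⟩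
  have hu8 : (8 : ℤ) ≤ u := by rw [hu']; exact_mod_cast hu
  rw [← hu'] at h hco2
  obtain ⟨Q, hQ⟩ : ∃ Q : ℤ, Q = (q : ℤ) ^ 3 := ⟨_, rfl⟩
  have hq8 := cube_ge hq
  rw [← hQ] at hco2 hq8
  have e1 : (q : ℤ) ^ 6 = Q ^ 2 := by rw [hQ]; ring
  rw [e1, ← hQ] at h
  have hε2 : ε * ε = 1 := by rcases hε with rfl | rfl <;> norm_num
  have h1 : (Q - ε) * (Q + 2 * ε) = u ^ 2 * (3 * (u ^ 2 - 1)) := by
    linear_combination (-1 : ℤ) * h - 2 * hε2
  have h2 : u ^ 2 ∣ Q - ε := by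
    refine hco2.dvd_of_dvd_mul_right ?_
    rw [h1]
    exact Dvd.intro _ rfl
  obtain ⟨c, hc⟩ := h2
  have hu2 : 64 ≤ u ^ 2 := by nlinarith
  have hb0 : (u ^ 2 : ℤ) ≠ 0 := by intro h0; linarith
  have h3 : c * (u ^ 2 * c + 3 * ε) = 3 * (u ^ 2 - 1) := by
    apply mul_left_cancel₀ hb0
    rw [← h1]
    have : Q + 2 * ε = u ^ 2 * c + 3 * ε := by linear_combination hc
    rw [this, hc]
    ring
  have hc0 : 0 < u ^ 2 * c := by rw [← hc]; rcases hε with rfl | rfl <;> linarith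
  have hc1 : 0 < c := by
    by_contra h0
    have : u ^ 2 * c ≤ 0 := mul_nonpos_of_nonneg_of_nonpos (by linarith) (not_lt.1 h0)
    linarith
  rcases (show c = 1 ∨ 2 ≤ c by omega) with rfl | h4
  · rcases hε with rfl | rfl <;> linarith
  · have h5 : u ^ 2 * 2 ≤ u ^ 2 * c := mul_le_mul_of_nonneg_left h4 (by linarith)
    have h6 : 2 * (u ^ 2 * 2 - 3) ≤ c * (u ^ 2 * c + 3 * ε) := by
      apply mul_le_mul h4 _ (by linarith) (by linarith)
      rcases hε with rfl | rfl <;> linarith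
    linarith

end Cfsg.Agent.H407.E6I
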