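import Cfsg.Agent.H366.IsoE6
import Cfsg.Agent.H366.IsoE6T
import Cfsg.Agent.H414.E6.Sit
import Cfsg.Agent.H129.ExactZ
import Cfsg.Agent.S1063
import Cfsg.Agent.S1066

/-!
# `Sit D L` for `L = E₆(q)`, `²E₆(q)` (helper407, statements S3480, S3481)

* `sit_E6`, `sit_tE6`: the situation for the groups themselves.
* `exact_E6`, `om_E6`, `o8_E6`, `prm_E6` and the same for `tE6`: the single facts.
-/

set_option autoImplicit false
set_option linter.unusedSectionVars false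

namespace Cfsg.Agent.H407.E6I

open CoxeterSystem Cfsg Cfsg.Lie Cfsg.Lie.ChevalleyDatum Cfsg.Agent.H414.E6
open Cfsg.Agent.ChevalleyStructure.CoxeterGeomTypes
open Cfsg.Agent.BpExc.FamInst Cfsg.Agent.BpExc.RowsUntw Cfsg.Agent.Nodes.RGDChev Cfsg.Agent.BpExc.FamExt
open Cfsg.Agent.H378.AdjTab Cfsg.Agent.H378.CycTab
open Cfsg.Agent.H493.PGTorus Cfsg.Agent.H129.WData Cfsg.Agent.H360.Iso Cfsg.Agent.H437.Iso Cfsg.Agent.H366.Iso
open Cfsg.Agent.H129

universe u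

/-- an exact cyclic torus: the isolated element order -/
theorem CycExact.elt {S : Type*} [Group S] [Finite S] {n : ℕ} (h : CycT.CycExact S n) :
    (∃ x : S, orderOf x = n) ∧
      ∀ (x : S) (s : ℕ), s.Prime → s ∣ n → s ∣ orderOf x → orderOf x ∣ n := by
  obtain ⟨T, h1, rfl, h3⟩ := h
  constructor
  · obtain ⟨t, ht⟩ := h1.exists_generator
    refine ⟨(t : S), ?_⟩
    rw [Subgroup.orderOf_coe]
    exact orderOf_eq_card_of_forall_mem_zpowers ht
  · intro x s hs hsT hsx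
    have hx0 : orderOf x ≠ 0 := (orderOf_pos x).ne'
    have ho : orderOf (x ^ (orderOf x / s)) = s := orderOf_pow_orderOf_div hx0 hsx
    obtain ⟨g, -, hg⟩ := Cfsg.Agent.H129.CycT.centralizer_conj h1 hs hsT (fun y hy hyo => (h3 y hy (by
      rintro rfl
      rw [orderOf_one] at hyo
      exact hs.one_lt.ne hyo)).le) ho
    have h4 : g * x * g⁻¹ ∈ T := by
      rw [← hg, Subgroup.mem_centralizer_singleton_iff]
      exact (Commute.self_pow x _).eq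
    have h5 : orderOf (g * x * g⁻¹) = orderOf x := by
      have := orderOf_injective (MulAut.conj g).toMonoidHom (MulAut.conj g).injective x
      simpa using this
    rw [← h5, ← Subgroup.orderOf_mk _ h4]
    exact orderOf_dvd_natCard _

/-- an element of order a divisor -/
theorem exists_dvd {S : Type*} [Group S] [Finite S] {N m : ℕ} (h : ∃ x : S, orderOf x = N) (hm : m ∣ N) (hN : N ≠ 0) :
    ∃ x : S, orderOf x = m := by
  obtain ⟨x, hx⟩ := h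
  obtain ⟨k, rfl⟩ := hm
  have hk : k ≠ 0 := by
    rintro rfl
    exact hN (mul_zero _)
  refine ⟨x ^ k, ?_⟩
  rw [orderOf_pow_of_dvd hk (by rw [hx]; exact dvd_mul_left _ _), hx, Nat.mul_div_cancel _ (Nat.pos_of_ne_zero hk)]

/-- `3` does not divide `q⁴ + 1` -/
theorem three_not_dvd (q : ℕ) : ¬ 3 ∣ q ^ 4 + 1 := by
  intro h
  have h2 : q % 3 < 3 := Nat.mod_lt _ (by norm_num)
  have h3 : (q ^ 4 + 1) % 3 = ((q % 3) ^ 4 + 1) % 3 := by rw [Nat.add_mod, Nat.pow_mod]; simp [Nat.add_mod]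
  generalize q % 3 = r at *
  interval_cases r <;> omega

theorem two_not_dvd {q : ℕ} (h : 2 ∣ q) : ¬ 2 ∣ q ^ 4 + 1 := by
  intro h1
  have h2 : 2 ∣ q ^ 4 := dvd_pow h (by norm_num)
  have := (Nat.dvd_add_right h2).1 h1
  omega

section nums

variable (D : Dat)

theorem Dat.m_eq : D.m = D.q ^ 4 - D.q ^ 2 + 1 := by
  have h1 := D.m_add
  have h2 : D.q ^ 2 ≤ D.q ^ 4 := Nat.pow_le_pow_right (by have := D.two_le; omega) (by norm_num)
  omega

/-- `d` for `ε = 1` -/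
theorem gcd_one (he : D.ε = 1) : Nat.gcd 3 (D.q - 1) = D.d := by
  have h2 := D.two_le
  have h3 := D.hd3
  rw [he] at h3
  have h4 : (3 : ℤ) ∣ (D.q : ℤ) - 1 ↔ 3 ∣ D.q - 1 := by
    rw [← Int.natCast_dvd_natCast, Nat.cast_sub (by omega)]
    norm_num
  rcases D.hd with hd | hd
  · rw [hd]
    refine ((Nat.dvd_prime Nat.prime_three).1 (Nat.gcd_dvd_left 3 (D.q - 1))).resolve_right fun h5 => ?_
    have h6 : 3 ∣ D.q - 1 := by rw [← h5]; exact Nat.gcd_dvd_right _ _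
    have := h3.2 (h4.2 h6)
    omega
  · rw [hd]
    exact Nat.gcd_eq_left (h4.1 (h3.1 hd))

/-- `d` for `ε = -1` -/
theorem gcd_neg (he : D.ε = -1) : Nat.gcd 3 (D.q + 1) = D.d := by
  have h2 := D.two_le
  have h3 := D.hd3
  rw [he] at h3
  have h4 : (3 : ℤ) ∣ (D.q : ℤ) - -1 ↔ 3 ∣ D.q + 1 := by
    rw [← Int.natCast_dvd_natCast]
    push_cast
    norm_num
  rcases D.hd with hd | hd
  · rw [hd]
    refine ((Nat.dvd_prime Nat.prime_three).1 (Nat.gcd_dvd_left 3 (D.q + 1))).resolve_right fun h5 => ?_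
    have h6 : 3 ∣ D.q + 1 := by rw [← h5]; exact Nat.gcd_dvd_right _ _
    have := h3.2 (h4.2 h6)
    omega
  · rw [hd]
    exact Nat.gcd_eq_left (h4.1 (h3.1 hd))

/-- `m` divides `(q² + εq + 1) m / d` -/
theorem m_dvd_div {a g : ℕ} (hg : g = 1 ∨ g = 3) (hga : g ∣ a) : D.m ∣ a * D.m / g := by
  obtain ⟨b, rfl⟩ := hga
  rw [mul_assoc, Nat.mul_div_cancel_left _ (by omega)]
  exact dvd_mul_left _ _

end nums

section E6

variable {D : Dat} {F : Type u} [Field F] [Fintype F] (he : D.ε = 1) (hF : Fintype.card F = D.q)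

include he hF

theorem exact_E6 : CycT.CycExact ↥(chevE6.group F) D.n := by
  have h1 := CycT.exact_E6_9 (F := F) hF (N := D.d * D.n) (by
    have := D.hn
    rw [he] at this
    push_cast
    rw [this]
    ring)
  rw [gcd_one D he, Nat.mul_div_cancel_left _ D.d_pos] at h1
  exact h1

theorem om_E6 : ∃ x : ↥(chevE6.group F), orderOf x = D.m := by
  have h1 := e6_orderC (F := F)
  have hcF : Nat.card F = D.q := by rw [Nat.card_eq_fintype_card, hF]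
  rw [hcF, ← Dat.m_eq] at h1
  have hg : Nat.gcd 3 (D.q - 1) = 1 ∨ Nat.gcd 3 (D.q - 1) = 3 := (Nat.dvd_prime Nat.prime_three).1 (Nat.gcd_dvd_left _ _)
  have hga := g3_dvd D.q (by have := D.two_le; omega)
  refine exists_dvd h1 (m_dvd_div D hg hga) ?_
  intro h0
  have hm := D.pos_m
  have h2 : Nat.gcd 3 (D.q - 1) ≤ (D.q ^ 2 + D.q + 1) * D.m :=
    Nat.le_of_dvd (Nat.mul_pos (by positivity) hm) (hga.mul_right _)
  have h3 := Nat.div_pos h2 (by rcases hg with h | h <;> omega)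
  omega

theorem o8_E6 : ∃ x : ↥(chevE6.group F), orderOf x = D.q ^ 4 + 1 := by
  let cs : CoxeterSystem CoxeterMatrix.E₆ CoxeterMatrix.E₆.Group := CoxeterMatrix.E₆.toCoxeterSystem
  have := finite_W e6T cs
  have hcF : Nat.card F = D.q := by rw [Nat.card_eq_fintype_card, hF]
  obtain ⟨x, -, -, h1, -⟩ := exists_comm_torus e6T cs inv_E6 three_ne_zero H378.AdjE6.hA H378.AdjE6.chain8
    H378.AdjE6.tor8_8 H378.AdjE6.tor8_8 (F := F) (m := D.q ^ 4 + 1) (m' := D.q ^ 4 + 1) (by positivity) (by positivity)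
    (by rw [pv8, hcF]; push_cast; exact dvd_rfl) (by rw [pv8, hcF]; push_cast; exact dvd_rfl)
  refine H360.Iso.exists_order ⟨x, ?_⟩
  refine Nat.Coprime.dvd_of_dvd_mul_right ?_ h1
  refine Nat.Coprime.coprime_dvd_right (Nat.gcd_dvd_left _ _) ?_
  exact ((Nat.Prime.coprime_iff_not_dvd Nat.prime_three).2 (three_not_dvd D.q)).symm

theorem prm_E6 (r : ℕ) (hr : r.Prime) (hd : r ∣ Nat.card ↥(chevE6.group F)) :
    (r : ℤ) ∣ (D.q : ℤ) * (D.q ^ 5 - D.ε) * (D.q ^ 8 - 1) * (D.q ^ 9 - D.ε) * (D.q ^ 12 - 1) := by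
  have hp := Nat.prime_iff_prime_int.1 hr
  have h1 := S1063.result hF
  have hq := D.two_le
  have h2 : (r : ℤ) ∣ (D.q : ℤ) ^ 36 * (D.q ^ 2 - 1) * (D.q ^ 5 - 1) * (D.q ^ 6 - 1) * (D.q ^ 8 - 1) * (D.q ^ 9 - 1) *
      (D.q ^ 12 - 1) := by
    have h3 : (r : ℤ) ∣ ((D.q ^ 36 * (D.q ^ 2 - 1) * (D.q ^ 5 - 1) * (D.q ^ 6 - 1) * (D.q ^ 8 - 1) * (D.q ^ 9 - 1) *
      (D.q ^ 12 - 1) : ℕ) : ℤ) := by
      rw [← h1]
      exact Int.natCast_dvd_natCast.2 (hd.mul_left _)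
    have key : ∀ k, 1 ≤ D.q ^ k := fun k => Nat.one_le_pow _ _ (by omega)
    push_cast [key 2, key 5, key 6, key 8, key 9, key 12] at h3
    exact h3
  rw [he]
  have e8 : ((D.q : ℤ) ^ 2 - 1) ∣ (D.q : ℤ) ^ 8 - 1 := ⟨D.q ^ 6 + D.q ^ 4 + D.q ^ 2 + 1, by ring⟩
  have e12 : ((D.q : ℤ) ^ 6 - 1) ∣ (D.q : ℤ) ^ 12 - 1 := ⟨D.q ^ 6 + 1, by ring⟩
  simp only [hp.dvd_mul] at h2 ⊢
  rcases h2 with (((((h3 | h3) | h3) | h3) | h3) | h3) | h3
  · exact Or.inl (Or.inl (Or.inl (Or.inl (hp.dvd_of_dvd_pow h3))))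
  · exact Or.inl (Or.inl (Or.inr (h3.trans e8)))
  · exact Or.inl (Or.inl (Or.inl (Or.inr h3)))
  · exact Or.inr (h3.trans e12)
  · exact Or.inl (Or.inl (Or.inr h3))
  · exact Or.inl (Or.inr h3)
  · exact Or.inr h3

/-- **`E₆(q)`** -/
theorem sit_E6 : Sit D ↥(chevE6.group F) where
  on := (CycExact.elt (exact_E6 he hF)).1
  iso := (CycExact.elt (exact_E6 he hF)).2
  om := om_E6 he hF
  tor x s hs hsm hsx := by
    have hcF : Nat.card F = D.q := by rw [Nat.card_eq_fintype_card, hF]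
    have h1 := ExactZ.Z12_E6 (F := F) x hs (by rw [hcF, ← Dat.m_eq]; exact hsm) hsx
    rw [hcF, ← Dat.m_eq] at h1
    have h2 : D.m * (D.q ^ 2 + D.q + 1) = D.e := by
      have h3 := D.he
      rw [he] at h3
      have h4 : ((D.m * (D.q ^ 2 + D.q + 1) : ℕ) : ℤ) = D.e := by rw [h3]; push_cast; ring
      exact_mod_cast h4
    rwa [h2] at h1
  o8 _ := o8_E6 he hF
  tor8 h2 x s hs hs8 hsx := by
    have hcF : Nat.card F = D.q := by rw [Nat.card_eq_fintype_card, hF]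
    have hs2 : s ≠ 2 := by
      rintro rfl
      exact two_not_dvd h2 hs8
    have h1 := ExactZ.Z8_E6 (F := F) x hs hs2 (by rw [hcF]; exact hs8) hsx
    rwa [hcF] at h1
  prm := prm_E6 he hF

end E6

section tE6

variable {D : Dat} {K : Type u} [Field K] [Fintype K] (he : D.ε = -1) (hK : Fintype.card K = D.q ^ 2)

include he hK

theorem exact_tE6 : CycT.CycExact ↥(twistedE6 K D.q) D.n := by
  have h1 := CycT.exact_tE6_18 D.pp hK (N := D.d * D.n) (by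
    have := D.hn
    rw [he] at this
    push_cast
    rw [this]
    ring)
  rw [gcd_neg D he, Nat.mul_div_cancel_left _ D.d_pos] at h1
  exact h1

theorem om_tE6 : ∃ x : ↥(twistedE6 K D.q), orderOf x = D.m := by
  have h1 := e6t_orderC D.pp hK
  rw [← Dat.m_eq] at h1
  have hg : Nat.gcd 3 (D.q + 1) = 1 ∨ Nat.gcd 3 (D.q + 1) = 3 := (Nat.dvd_prime Nat.prime_three).1 (Nat.gcd_dvd_left _ _)
  have hga := gt3_dvd6 D.q
  refine exists_dvd h1 (m_dvd_div D hg hga) ?_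
  intro h0
  have hm := D.pos_m
  have h2 : Nat.gcd 3 (D.q + 1) ≤ (D.q ^ 2 - D.q + 1) * D.m :=
    Nat.le_of_dvd (Nat.mul_pos (by omega) hm) (hga.mul_right _)
  have h3 := Nat.div_pos h2 (by rcases hg with h | h <;> omega)
  omega

theorem o8_tE6 : ∃ x : ↥(twistedE6 K D.q), orderOf x = D.q ^ 4 + 1 := by
  have := H493.PGE6.finW
  obtain ⟨p, e, hpF, hpk, he', hqe, hk⟩ := H493.PGE6T.setup D.pp hK
  obtain ⟨x, hx⟩ := exists_order_eig Cfsg.Agent.Nodes.RGDTwE6.hp CoxeterMatrix.E₆.toCoxeterSystem hk he'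
    (H493.TwE6Alg.isFrob_tau) (H493.TwE6Alg.fr_tau _)
    TorusChar.invC_E6 (by norm_num) (H493.TwE6Alg.embT_injective (algebraMap K (AlgebraicClosure K)) D.q)
    (d := Nat.gcd 3 (D.q + 1))
    (fun y hy => H493.TwE6Alg.tau_pow _ hqe D.pp hK hy) (H493.PGE6T.lin _ H493.PGE6T.chainE_ok H493.PGE6T.hThE)
    H493.PGE6T.eigE_8 (by decide) (m := D.q ^ 4 + 1) (by positivity) (by
      rw [H493.PGCyc.pv_c8, ← hqe]
      push_cast
      exact dvd_rfl)
  refine H360.Iso.exists_order ⟨x, ?_⟩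
  refine Nat.Coprime.dvd_of_dvd_mul_right ?_ hx
  refine Nat.Coprime.coprime_dvd_right (Nat.gcd_dvd_left _ _) ?_
  exact ((Nat.Prime.coprime_iff_not_dvd Nat.prime_three).2 (three_not_dvd D.q)).symm

theorem prm_tE6 (r : ℕ) (hr : r.Prime) (hd : r ∣ Nat.card ↥(twistedE6 K D.q)) :
    (r : ℤ) ∣ (D.q : ℤ) * (D.q ^ 5 - D.ε) * (D.q ^ 8 - 1) * (D.q ^ 9 - D.ε) * (D.q ^ 12 - 1) := by
  have hp := Nat.prime_iff_prime_int.1 hr
  have h1 := S1066.result D.pp hK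
  have hq := D.two_le
  have h2 : (r : ℤ) ∣ (D.q : ℤ) ^ 36 * (D.q ^ 2 - 1) * (D.q ^ 5 + 1) * (D.q ^ 6 - 1) * (D.q ^ 8 - 1) * (D.q ^ 9 + 1) *
      (D.q ^ 12 - 1) := by
    have h3 : (r : ℤ) ∣ ((D.q ^ 36 * (D.q ^ 2 - 1) * (D.q ^ 5 + 1) * (D.q ^ 6 - 1) * (D.q ^ 8 - 1) * (D.q ^ 9 + 1) *
      (D.q ^ 12 - 1) : ℕ) : ℤ) := by
      rw [← h1]
      exact Int.natCast_dvd_natCast.2 (hd.mul_left _)
    have key : ∀ k, 1 ≤ D.q ^ k := fun k => Nat.one_le_pow _ _ (by omega)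
    push_cast [key 2, key 6, key 8, key 12] at h3
    exact h3
  rw [he]
  have e8 : ((D.q : ℤ) ^ 2 - 1) ∣ (D.q : ℤ) ^ 8 - 1 := ⟨D.q ^ 6 + D.q ^ 4 + D.q ^ 2 + 1, by ring⟩
  have e12 : ((D.q : ℤ) ^ 6 - 1) ∣ (D.q : ℤ) ^ 12 - 1 := ⟨D.q ^ 6 + 1, by ring⟩
  simp only [hp.dvd_mul, sub_neg_eq_add] at h2 ⊢
  rcases h2 with (((((h3 | h3) | h3) | h3) | h3) | h3) | h3
  · exact Or.inl (Or.inl (Or.inl (Or.inl (hp.dvd_of_dvd_pow h3))))
  · exact Or.inl (Or.inl (Or.inr (h3.trans e8)))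
  · exact Or.inl (Or.inl (Or.inl (Or.inr h3)))
  · exact Or.inr (h3.trans e12)
  · exact Or.inl (Or.inl (Or.inr h3))
  · exact Or.inl (Or.inr h3)
  · exact Or.inr h3

/-- **`²E₆(q)`** -/
theorem sit_tE6 : Sit D ↥(twistedE6 K D.q) where
  on := (CycExact.elt (exact_tE6 he hK)).1
  iso := (CycExact.elt (exact_tE6 he hK)).2
  om := om_tE6 he hK
  tor x s hs hsm hsx := by
    have hcK : Nat.card K = D.q ^ 2 := by rw [Nat.card_eq_fintype_card, hK]
    have h1 := ExactZ.Z12_tE6 D.pp hcK x hs (by rw [← Dat.m_eq]; exact hsm) hsx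
    rw [← Dat.m_eq] at h1
    have h2 : D.m * (D.q ^ 2 - D.q + 1) = D.e := by
      have h3 := D.he
      rw [he] at h3
      have h4 : ((D.m * (D.q ^ 2 - D.q + 1) : ℕ) : ℤ) = D.e := by rw [h3, Nat.cast_mul, e6t_cast6]; ring
      exact_mod_cast h4
    rwa [h2] at h1
  o8 _ := o8_tE6 he hK
  tor8 h2 x s hs hs8 hsx := by
    have hcK : Nat.card K = D.q ^ 2 := by rw [Nat.card_eq_fintype_card, hK]
    have hs2 : s ≠ 2 := by
      rintro rfl
      exact two_not_dvd h2 hs8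
    exact ExactZ.Z8_tE6 D.pp hcK x hs hs2 hs8 hsx
  prm := prm_tE6 he hK

end tE6

end Cfsg.Agent.H407.E6I
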