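import Cfsg.Agent.H72.F4I.Iso.TwF4
import Cfsg.Agent.H407.E6I.Base
import Cfsg.Agent.S1068

/-!
# Identification for S3480, S3481: the row `²F₄(2^(2m+1))` (helper407)
-/

set_option autoImplicit false
set_option linter.unusedSectionVars false

namespace Cfsg.Agent.H407.E6I

open Cfsg Cfsg.Lie Cfsg.Agent.H414.E6
open Cfsg.Agent.H72.F4I.Iso (IsoN)

universe u

variable {D : Dat}

/-- `n` modulo 4 for `q` even, `d = 3` -/
theorem n_mod_four (hd : D.d = 3) (hq : 2 ∣ D.q) : D.n % 4 = 3 := by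
  obtain ⟨k, hk⟩ := hq
  have hn := D.hn
  rw [hd, hk] at hn
  push_cast at hn
  have h1 : (3 : ℤ) * D.n = 4 * (16 * (k : ℤ) ^ 6 + 2 * D.ε * (k : ℤ) ^ 3) + 1 := by rw [hn]; ring
  omega

/-- **`²F₄(2^(2m+1))`** -/
theorem row_2F4 {K : Type u} [Field K] [Fintype K] {m : ℕ} (hm : 1 ≤ m) (hK : Fintype.card K = 2 ^ (2 * m + 1))
    (h : Sit D ↥(twistedF4 K (2 ^ m))) : False := by
  have hfin : Finite ↥(twistedF4 K (2 ^ m)) := inferInstance
  have hq2 := D.two_le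
  have hn := D.hn
  have hb2 : (2 : ℤ) ≤ 2 ^ m := by
    calc (2 : ℤ) = 2 ^ 1 := by norm_num
      _ ≤ 2 ^ m := pow_le_pow_right₀ (by norm_num) hm
  have hbe : (2 : ℕ) ^ m % 2 = 0 := by
    obtain ⟨l, rfl⟩ : ∃ l, m = l + 1 := ⟨m - 1, by omega⟩
    rw [pow_succ]
    omega
  have hq8 := cube_ge hq2
  have e6 : (D.q : ℤ) ^ 6 = ((D.q : ℤ) ^ 3) ^ 2 := by ring
  -- the two numbers `4b⁴ ± 4b³ + 2b² ± 2b + 1`
  have small : ∀ s : ℤ, (s = 1 ∨ s = -1) →
      (D.n : ℤ) = 4 * (2 ^ m : ℤ) ^ 4 + s * (4 * (2 ^ m : ℤ) ^ 3) + 2 * (2 ^ m : ℤ) ^ 2 + s * (2 * (2 ^ m : ℤ)) + 1 →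
      False := by
    intro s hs h1
    rcases D.hd with hd | hd
    · rw [hd, h1, e6] at hn
      refine tf_one hb2 hq8 hs D.eps ?_
      rw [← hn]
      push_cast
      ring
    · by_cases hq : 2 ∣ D.q
      · have h2 := n_mod_four hd hq
        obtain ⟨b, hb⟩ : ∃ b, (2 : ℕ) ^ m = 2 * b := ⟨2 ^ m / 2, by omega⟩
        have hb' : (2 : ℤ) ^ m = 2 * b := by exact_mod_cast hb
        rw [hb'] at h1
        have h3 : (D.n : ℤ) = 4 * (16 * (b : ℤ) ^ 4 + s * (8 * (b : ℤ) ^ 3) + 2 * (b : ℤ) ^ 2 + s * b) + 1 := by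
          rw [h1]; ring
        omega
      · rw [hd, h1] at hn
        refine tf_three hm hq2 (by omega) hs D.eps ?_
        rw [← hn]
        push_cast
        ring
  rcases H72.F4I.Iso.f4t_row hK hm rfl (isoN h) with h1 | h1 | h1
  · refine small 1 (Or.inl rfl) ?_
    rw [h1]
    push_cast
    ring
  · refine small (-1) (Or.inr rfl) ?_
    have : ((D.n + 4 * (2 ^ m) ^ 3 + 2 * 2 ^ m : ℕ) : ℤ) = ((4 * (2 ^ m) ^ 4 + 2 * (2 ^ m) ^ 2 + 1 : ℕ) : ℤ) := by
      rw [h1]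
    push_cast at this
    linarith
  · -- `n = u⁴ - u² + 1`, `u = 2^(2m+1)`
    have e1 : ((2 ^ (2 * m + 1) : ℕ) : ℤ) = 2 * (2 ^ m : ℤ) ^ 2 := by push_cast; ring
    have h2 : (D.n : ℤ) = ((2 ^ (2 * m + 1) : ℕ) : ℤ) ^ 4 - ((2 ^ (2 * m + 1) : ℕ) : ℤ) ^ 2 + 1 := by
      rw [h1, e1]
      have h3 : 4 * (2 ^ m) ^ 4 ≤ 16 * (2 ^ m) ^ 8 := by
        have := Nat.pow_le_pow_right (show 1 ≤ 2 ^ m from Nat.one_le_two_pow) (show 4 ≤ 8 by norm_num)
        omega
      rw [Nat.cast_add, Nat.cast_sub h3]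
      push_cast
      ring
    rcases D.hd with hd | hd
    · rw [hd, h2] at hn
      have h3 := tf_D1 (m := 2 * m + 1) (by omega) D.pp D.eps (by rw [← hn]; push_cast; ring)
      obtain ⟨t, ht, htm, ht13, hc⟩ := h.exists_prime_m
      obtain ⟨v, hv⟩ : ∃ v, v = 2 ^ (2 * m + 1) := ⟨_, rfl⟩
      rw [← hv] at h3
      have hv1 : 1 ≤ v := by rw [hv]; exact Nat.one_le_two_pow
      have htd : t ∣ v ^ 2 ^ 2 + 1 := by
        have h4 : v ^ 2 ^ 2 + 1 = (D.q ^ 2 + 1) * D.m := by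
          have h5 := D.m_add
          have h6 : v ^ 2 ^ 2 = D.q ^ 6 := by
            calc v ^ 2 ^ 2 = (v ^ 2) ^ 2 := by ring
              _ = D.q ^ 6 := by rw [← h3]; ring
          rw [h6]
          have h7 : ((D.q ^ 6 + 1 : ℕ) : ℤ) = (((D.q ^ 2 + 1) * D.m : ℕ) : ℤ) := by
            push_cast
            rw [D.hm]
            ring
          exact_mod_cast h7
        rw [h4]
        exact htm.mul_left _
      rw [S1068.result hK, ← hv] at hc
      have ht2 : t ≠ 2 := by omega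
      have key : ∀ k, t ∣ v ^ k - 1 → 8 ∣ k := fun k => pow_one_dvd (j := 2) ht ht2 htd hv1
      have key' : ∀ k, t ∣ v ^ k + 1 → 8 ∣ 2 * k := fun k => pow_add_dvd (j := 2) ht ht2 htd hv1
      simp only [ht.dvd_mul] at hc
      rcases hc with (((hc | hc) | hc) | hc) | hc
      · have h5 := ht.dvd_of_dvd_pow hc
        rw [hv] at h5
        exact ht2 ((Nat.prime_dvd_prime_iff_eq ht Nat.prime_two).1 (ht.dvd_of_dvd_pow h5))
      · have := key 1 (by rwa [pow_one])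
        omega
      · have := key' _ hc
        omega
      · have := key _ hc
        omega
      · have := key' _ hc
        omega
    · by_cases hq : 2 ∣ D.q
      · have h3 := n_mod_four hd hq
        rw [h1] at h3
        obtain ⟨b, hb⟩ : ∃ b, (2 : ℕ) ^ m = 2 * b := ⟨2 ^ m / 2, by omega⟩
        omega
      · rw [hd, h2] at hn
        refine tf_D3 (m := 2 * m + 1) (by omega) hq2 (by omega) D.eps ?_
        rw [← hn]
        push_cast
        ring

end Cfsg.Agent.H407.E6I
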